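import Mathlib

/-!
An abelian normal subgroup of a linear group transitive on nonzero vectors spans a field.
-/

set_option autoImplicit false

namespace Cfsg.Agent.SolRegular

open Subgroup

/-- All maps are semilinear for some field structure. -/
def Semi {V G : Type*} [AddCommGroup V] (f : G → V → V) : Prop :=
  ∃ (F : Type) (_ : Field F) (_ : Fintype F) (e : V ≃+ F),
    ∀ g : G, ∃ (a : F) (σ : F ≃+* F), ∀ v : V, e (f g v) = a * σ (e v)

/-- A semilinear group transitive on nonzero vectors in odd characteristic has a subgroup of index 2. -/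
theorem Semi.index_two {V G : Type*} [AddCommGroup V] [Group G] [Finite V] (f : G → V → V)
    (h1 : ∀ v, f 1 v = v) (hm : ∀ g h v, f (g * h) v = f g (f h v))
    (htr : ∀ v w : V, v ≠ 0 → w ≠ 0 → ∃ g, f g v = w) (hodd : Odd (Nat.card V))
    (hs : Semi f) : ∃ N : Subgroup G, N.Normal ∧ N.index = 2 := by
  classical
  obtain ⟨F, _, _, e, he⟩ := hs
  have hchar : ringChar F ≠ 2 := by
    rw [Ne, FiniteField.even_card_iff_char_two, ← Nat.card_eq_fintype_card, ← Nat.card_congr e.toEquiv]
    obtain ⟨k, hk⟩ := hodd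
    omega
  choose a σ ha using he
  have hmul : ∀ g h, a (g * h) = a g * σ g (a h) := by
    intro g h
    have h2 := ha (g * h) (e.symm 1)
    rw [hm, ha g, ha h, e.apply_symm_apply, map_one, map_one, mul_one, mul_one] at h2
    exact h2.symm
  have hone : a 1 = 1 := by
    have h2 := ha 1 (e.symm 1)
    rw [h1, e.apply_symm_apply, map_one, mul_one] at h2
    exact h2.symm
  have hne : ∀ g, a g ≠ 0 := fun g h0 => by
    have h2 := hmul g g⁻¹
    rw [mul_inv_cancel, hone, h0, zero_mul] at h2
    exact one_ne_zero h2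
  have hsq : ∀ (τ : F ≃+* F) (x : F), x ≠ 0 → quadraticChar F (τ x) = quadraticChar F x := by
    intro τ x hx
    have hx' : τ x ≠ 0 := by simpa using hx
    by_cases hs : IsSquare x
    · rw [(quadraticChar_one_iff_isSquare hx).2 hs, (quadraticChar_one_iff_isSquare hx').2 (hs.map τ)]
    · rw [quadraticChar_neg_one_iff_not_isSquare.2 hs, quadraticChar_neg_one_iff_not_isSquare.2 fun hs' => hs ?_]
      simpa using hs'.map τ.symm
  let χ : G →* ℤ :=
    { toFun := fun g => quadraticChar F (a g)
      map_one' := by rw [hone, map_one]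
      map_mul' := fun g h => by rw [hmul, map_mul, hsq _ _ (hne h)] }
  refine ⟨χ.toHomUnits.ker, inferInstance, ?_⟩
  rw [index_ker]
  obtain ⟨u, hu⟩ := FiniteField.exists_nonsquare hchar
  obtain ⟨g, hg⟩ := htr (e.symm 1) (e.symm u) (by simp) (by
    simp only [ne_eq, map_eq_zero_iff _ e.symm.injective]
    rintro rfl
    exact hu ⟨0, by simp⟩)
  have h2 := ha g (e.symm 1)
  rw [hg, e.apply_symm_apply, e.apply_symm_apply, map_one, mul_one] at h2
  have hg1 : χ.toHomUnits g = -1 := by
    refine Units.ext ?_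
    rw [MonoidHom.coe_toHomUnits, Units.val_neg, Units.val_one]
    show quadraticChar F (a g) = -1
    rw [← h2]
    exact quadraticChar_neg_one_iff_not_isSquare.2 hu
  have : χ.toHomUnits.range = ⊤ := by
    rw [eq_top_iff]
    intro x _
    rcases Int.units_eq_one_or x with rfl | rfl
    · exact one_mem _
    · exact ⟨g, hg1⟩
  rw [this, card_top, Nat.card_eq_fintype_card]
  decide

universe u

variable {V : Type u} [AddCommGroup V] {q : ℕ} [hq : Fact q.Prime] [Module (ZMod q) V] [Finite V] [Nontrivial V]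
variable {G : Type*} [Group G] [Finite G] (ρ : G →* (V ≃ₗ[ZMod q] V))

/-- An abelian normal subgroup spans a field `R`, over which its centraliser is linear. -/
theorem exists_field_module (hρ : Function.Injective ρ)
    (htr : ∀ v w : V, v ≠ 0 → w ≠ 0 → ∃ g : G, ρ g v = w) (B : Subgroup G) [B.Normal]
    (hB : ∀ a ∈ B, ∀ b ∈ B, a * b = b * a) :
    ∃ (R : Type u) (_ : Field R) (_ : Finite R) (_ : Module R V) (d : ℕ), 0 < d ∧ Nat.card R = q ^ d ∧
      0 < Module.finrank R V ∧ Nat.card V = q ^ (d * Module.finrank R V) ∧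
      (centralizer (B : Set G)).index ∣ d ∧
      (∃ ι : B →* R, Function.Injective ι ∧ ∀ (b : B) (v : V), ρ b v = ι b • v) ∧
      (∀ g ∈ centralizer (B : Set G), ∀ (r : R) (v : V), ρ g (r • v) = r • ρ g v) ∧
      (Module.finrank R V = 1 → Semi (fun g v => ρ g v) ∧
        ∀ x ∈ centralizer (B : Set G), ∀ y ∈ centralizer (B : Set G), x * y = y * x) := by
  classical
  let f : G →* Module.End (ZMod q) V :=
    { toFun := fun g => (ρ g).toLinearMap
      map_one' := by rw [map_one]; rfl
      map_mul' := fun a b => by rw [map_mul]; rfl }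
  have hf : ∀ g v, f g v = ρ g v := fun _ _ => rfl
  have hfi : Function.Injective f := fun a b h => hρ (LinearEquiv.ext fun v => LinearMap.congr_fun h v)
  let R : Subalgebra (ZMod q) (Module.End (ZMod q) V) := Algebra.adjoin (ZMod q) (f '' B)
  have hgen : ∀ b ∈ B, f b ∈ R := fun b hb => Algebra.subset_adjoin ⟨b, hb, rfl⟩
  have hgcom : ∀ a ∈ f '' (B : Set G), ∀ b ∈ f '' (B : Set G), a * b = b * a := by
    rintro _ ⟨a, ha, rfl⟩ _ ⟨b, hb, rfl⟩
    rw [← map_mul, hB a ha b hb, map_mul]
  letI : CommRing R := { (inferInstance : Ring R) with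
    mul_comm := fun a b => Subtype.ext (Algebra.commute_of_mem_adjoin_of_forall_mem_commute (s := f '' B) b.2
      fun y hy => (Algebra.commute_of_mem_adjoin_of_forall_mem_commute (s := f '' B) a.2
        fun z hz => hgcom y hy z hz).symm) }
  have hfinE : Finite (Module.End (ZMod q) V) :=
    Finite.of_injective (fun g : Module.End (ZMod q) V => (g : V → V)) DFunLike.coe_injective
  -- conjugation
  have hmap : ∀ g, ∀ r ∈ R, f g * r * f g⁻¹ ∈ R := by
    intro g r hr
    induction hr using Algebra.adjoin_induction with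
    | mem x hx =>
      obtain ⟨b, hb, rfl⟩ := hx
      rw [← map_mul, ← map_mul]
      exact hgen _ (Normal.conj_mem inferInstance b hb g)
    | algebraMap c =>
      rw [← Algebra.commutes, mul_assoc, ← map_mul, mul_inv_cancel, map_one, mul_one]
      exact algebraMap_mem _ c
    | add x y _ _ hx hy =>
      rw [mul_add, add_mul]
      exact add_mem hx hy
    | mul x y _ _ hx hy =>
      have e : f g * (x * y) * f g⁻¹ = (f g * x * f g⁻¹) * (f g * y * f g⁻¹) := by
        rw [show (f g * x * f g⁻¹) * (f g * y * f g⁻¹)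
            = f g * x * (f g⁻¹ * f g) * (y * f g⁻¹) by simp only [mul_assoc],
          ← map_mul, inv_mul_cancel, map_one, mul_one]
        simp only [mul_assoc]
      rw [e]
      exact mul_mem hx hy
  let c : G → R → R := fun g r => ⟨f g * r * f g⁻¹, hmap g r r.2⟩
  have hc2 : ∀ a b r, c (a * b) r = c a (c b r) := fun a b r => Subtype.ext (by
    simp only [c, map_mul, mul_inv_rev, mul_assoc])
  have hc1 : ∀ r, c 1 r = r := fun r => Subtype.ext (by simp [c])
  have hcv : ∀ g (r : R) v, (c g r : Module.End (ZMod q) V) (ρ g v) = ρ g ((r : Module.End (ZMod q) V) v) := by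
    intro g r v
    show f g ((r : Module.End (ZMod q) V) (f g⁻¹ (f g v))) = _
    rw [← Module.End.mul_apply (f g⁻¹), ← map_mul, inv_mul_cancel, map_one, Module.End.one_apply]
    rfl
  let σ : G → (R ≃ₐ[ZMod q] R) := fun g =>
    { toFun := c g
      invFun := c g⁻¹
      left_inv := fun r => by rw [← hc2, inv_mul_cancel, hc1]
      right_inv := fun r => by rw [← hc2, mul_inv_cancel, hc1]
      map_mul' := fun r s => Subtype.ext (by
        simp only [c, Subalgebra.coe_mul]
        rw [show f g * (r : Module.End (ZMod q) V) * f g⁻¹ * (f g * (s : Module.End (ZMod q) V) * f g⁻¹)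
            = f g * (r : Module.End (ZMod q) V) * (f g⁻¹ * f g) * ((s : Module.End (ZMod q) V) * f g⁻¹) by
              simp only [mul_assoc],
          ← map_mul, inv_mul_cancel, map_one, mul_one]
        simp only [mul_assoc])
      map_add' := fun r s => Subtype.ext (by simp only [c, Subalgebra.coe_add, mul_add, add_mul])
      commutes' := fun a => Subtype.ext (by
        simp only [c, Subalgebra.coe_algebraMap]
        rw [← Algebra.commutes, mul_assoc, ← map_mul, mul_inv_cancel, map_one, mul_one]) }
  let Φ : G →* (R ≃ₐ[ZMod q] R) := ⟨⟨σ, AlgEquiv.ext hc1⟩, fun a b => AlgEquiv.ext (hc2 a b)⟩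
  -- cyclic submodules
  let ev : V → (R →+ V) := fun v =>
    { toFun := fun r => (r : Module.End (ZMod q) V) v
      map_zero' := rfl
      map_add' := fun _ _ => rfl }
  have hev : ∀ v (r s : R), ev v (r * s) = (r : Module.End (ZMod q) V) (ev v s) := fun _ _ _ => rfl
  have hsize : ∀ g v, Nat.card (ev (ρ g v)).range = Nat.card (ev v).range := by
    intro g v
    have : ((ev (ρ g v)).range : Set V) = (fun x => ρ g x) '' ((ev v).range : Set V) := by
      ext x
      constructor
      · rintro ⟨r, rfl⟩
        refine ⟨ev v (c g⁻¹ r), ⟨_, rfl⟩, ?_⟩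
        show ρ g (((c g⁻¹ r : R) : Module.End (ZMod q) V) v) = (r : Module.End (ZMod q) V) (ρ g v)
        rw [← hcv g (c g⁻¹ r) v, ← hc2, mul_inv_cancel, hc1]
      · rintro ⟨_, ⟨r, rfl⟩, rfl⟩
        exact ⟨c g r, hcv g r v⟩
    rw [← SetLike.coe_sort_coe, this, Nat.card_coe_set_eq, Set.ncard_image_of_injective _ (ρ g).injective]
    exact (Nat.card_coe_set_eq _).symm
  have hone : ∀ v, v ∈ (ev v).range := fun v => ⟨1, rfl⟩
  have hsimple : ∀ v : V, v ≠ 0 → ∀ u ∈ (ev v).range, u ≠ 0 → v ∈ (ev u).range := by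
    intro v hv u hu hu0
    obtain ⟨g, hg⟩ := htr v u hv hu0
    have hle : (ev u).range ≤ (ev v).range := by
      rintro _ ⟨r, rfl⟩
      obtain ⟨s, rfl⟩ := hu
      exact ⟨r * s, hev v r s⟩
    rw [AddSubgroup.eq_of_le_of_card_ge hle (by rw [← hg, hsize])]
    exact hone v
  have hann : ∀ r : R, ∀ v : V, v ≠ 0 → (r : Module.End (ZMod q) V) v = 0 → r = 0 := by
    intro r v hv hr
    refine Subtype.ext (LinearMap.ext fun w => ?_)
    show (r : Module.End (ZMod q) V) w = 0
    by_cases hw : w ∈ (ev v).range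
    · obtain ⟨s, rfl⟩ := hw
      rw [← hev, mul_comm, hev]
      show (s : Module.End (ZMod q) V) ((r : Module.End (ZMod q) V) v) = 0
      rw [hr, map_zero]
    by_contra hne
    set u := (r : Module.End (ZMod q) V) w with hu
    have hvw : v + w ≠ 0 := fun h => hw (by rw [eq_neg_of_add_eq_zero_right h]; exact neg_mem (hone v))
    obtain ⟨s, hs⟩ := hsimple (v + w) hvw u ⟨r, by show (r : Module.End (ZMod q) V) (v + w) = u; rw [map_add, hr, zero_add]⟩ hne
    -- `v + w` lies in the submodule of `w`
    have hmem : v + w ∈ (ev w).range := ⟨s * r, hs⟩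
    have hv' : v ∈ (ev w).range := by simpa using sub_mem hmem (hone w)
    by_cases hw0 : w = 0
    · exact hw (hw0 ▸ zero_mem _)
    exact hw (hsimple w hw0 v hv' hv)
  obtain ⟨v0, hv0⟩ := exists_ne (0 : V)
  haveI : Nontrivial R := ⟨0, 1, fun e => hv0 (by
    simpa using (LinearMap.congr_fun (congrArg Subtype.val e) v0).symm)⟩
  haveI : NoZeroDivisors R := ⟨fun {a b} hab => by
    by_contra! hne
    refine hne.2 (hann b v0 hv0 ?_)
    by_contra hb
    exact hne.1 (hann a _ hb (LinearMap.congr_fun (congrArg Subtype.val hab) v0))⟩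
  haveI : IsDomain R := NoZeroDivisors.to_isDomain R
  letI : Fintype R := Fintype.ofFinite R
  letI : Field R := Fintype.fieldOfDomain R
  letI : Module R V := Module.compHom V R.val.toRingHom
  have hsmul : ∀ (r : R) (v : V), r • v = (r : Module.End (ZMod q) V) v := fun _ _ => rfl
  haveI : CharP R q := charP_of_injective_algebraMap (algebraMap (ZMod q) R).injective q
  obtain ⟨d, -, hd⟩ := FiniteField.card R q
  have hR : Nat.card R = q ^ (d : ℕ) := by rw [Nat.card_eq_fintype_card]; exact hd
  haveI : Module.Finite R V := Module.Finite.of_finite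
  set m := Module.finrank R V
  have hV : Nat.card V = q ^ ((d : ℕ) * m) := by rw [Module.natCard_eq_pow_finrank (K := R), hR, ← pow_mul]
  haveI : Module.Finite (ZMod q) R := Module.Finite.of_finite
  have hdeg : Module.finrank (ZMod q) R = d := by
    have := Module.natCard_eq_pow_finrank (K := ZMod q) (V := R)
    rw [hR, Nat.card_zmod] at this
    exact (Nat.pow_right_injective hq.out.two_le this).symm
  have hAut : Nat.card (R ≃ₐ[ZMod q] R) = d := by rw [IsGalois.card_aut_eq_finrank, hdeg]
  have hker : Φ.ker = centralizer (B : Set G) := by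
    ext g
    rw [MonoidHom.mem_ker, mem_centralizer_iff]
    constructor
    · intro e b hb
      refine (mul_inv_eq_iff_eq_mul.mp (hfi ?_ : g * b * g⁻¹ = b)).symm
      rw [map_mul, map_mul]
      exact congrArg Subtype.val (AlgEquiv.congr_fun e (⟨f b, hgen b hb⟩ : R))
    · intro h
      refine AlgEquiv.ext fun r => Subtype.ext ?_
      have hcm : Commute (f g) (r : Module.End (ZMod q) V) :=
        Algebra.commute_of_mem_adjoin_of_forall_mem_commute (s := f '' B) r.2 fun y hy => by
          obtain ⟨b, hb, rfl⟩ := hy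
          show f g * f b = f b * f g
          rw [← map_mul, ← h b hb, map_mul]
      show f g * (r : Module.End (ZMod q) V) * f g⁻¹ = (r : Module.End (ZMod q) V)
      rw [hcm.eq, mul_assoc, ← map_mul, mul_inv_cancel, map_one, mul_one]
  refine ⟨R, inferInstance, inferInstance, inferInstance, d, d.pos, hR, Module.finrank_pos, hV, ?_, ?_, ?_,
    fun hm1 => ?_⟩
  · rw [← hker, index_ker]
    exact (card_subgroup_dvd_card _).trans hAut.dvd
  · let ι : B →* R :=
      { toFun := fun b => ⟨f b, hgen b b.2⟩
        map_one' := Subtype.ext (map_one f)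
        map_mul' := fun a b => Subtype.ext (map_mul f (a : G) b) }
    exact ⟨ι, fun a b h => Subtype.ext (hfi (congrArg Subtype.val h)), fun _ _ => rfl⟩
  · intro g hg r v
    have h1 := hcv g r v
    rw [show c g r = r from AlgEquiv.congr_fun (MonoidHom.mem_ker.1 (hker.ge hg)) r] at h1
    exact h1.symm
  · have hbij : Function.Bijective (ev v0) := by
      refine (Nat.bijective_iff_injective_and_card _).mpr ⟨?_, by rw [hR, hV, show m = 1 from hm1, mul_one]⟩
      refine (injective_iff_map_eq_zero _).mpr fun r hr => hann r v0 hv0 hr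
    let eR : R ≃+ V := AddEquiv.ofBijective (ev v0) hbij
    have key : ∀ g (r : R), ρ g (eR r) = eR (Φ g r * eR.symm (ρ g v0)) := by
      intro g r
      obtain ⟨s, hs⟩ := eR.surjective (ρ g v0)
      rw [← hs, eR.symm_apply_apply]
      show ρ g ((r : Module.End (ZMod q) V) v0) = (((c g r) * s : R) : Module.End (ZMod q) V) v0
      rw [← hcv]
      exact congrArg (fun x => ((c g r : R) : Module.End (ZMod q) V) x) hs.symm
    refine ⟨?_, fun x hx y hy => ?_⟩
    · letI : Fintype (GaloisField q d) := Fintype.ofFinite _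
      let φ : R ≃+* GaloisField q d := FiniteField.ringEquivOfCardEq (by
        rw [← Nat.card_eq_fintype_card, ← Nat.card_eq_fintype_card, hR, GaloisField.card q d d.pos.ne'])
      refine ⟨GaloisField q d, inferInstance, inferInstance, eR.symm.trans φ.toAddEquiv, fun g =>
        ⟨φ (eR.symm (ρ g v0)), φ.symm.trans ((Φ g).toRingEquiv.trans φ), fun v => ?_⟩⟩
      obtain ⟨r, rfl⟩ := eR.surjective v
      show φ (eR.symm (ρ g (eR r))) = _ * φ (Φ g (φ.symm (φ (eR.symm (eR r)))))
      rw [key, eR.symm_apply_apply, eR.symm_apply_apply, φ.symm_apply_apply, map_mul, mul_comm]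
    · have hone : ∀ z ∈ centralizer (B : Set G), ∀ r, Φ z r = r := fun z hz r => by
        rw [show Φ z = 1 from MonoidHom.mem_ker.1 (hker.ge hz)]; rfl
      refine hρ (LinearEquiv.ext fun v => ?_)
      obtain ⟨r, rfl⟩ := eR.surjective v
      simp only [map_mul, LinearEquiv.mul_apply]
      rw [key y, hone y hy, key x, hone x hx, key x r, hone x hx, key y, hone y hy, mul_assoc, mul_assoc,
        mul_comm (eR.symm _) (eR.symm _)]

theorem card_dvd_of_injective_monoidHom {R : Type*} [Field R] [Finite R] {B : Type*} [Group B] (ι : B →* R)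
    (hι : Function.Injective ι) : Nat.card B ∣ Nat.card R - 1 := by
  have := Subgroup.card_dvd_of_injective ι.toHomUnits fun a b h => hι (congrArg Units.val h)
  rwa [Nat.card_units] at this

/-- The numerical content of `exists_field_module`. -/
theorem exists_field (hρ : Function.Injective ρ)
    (htr : ∀ v w : V, v ≠ 0 → w ≠ 0 → ∃ g : G, ρ g v = w) (B : Subgroup G) [B.Normal]
    (hB : ∀ a ∈ B, ∀ b ∈ B, a * b = b * a) :
    ∃ d m : ℕ, 0 < d ∧ 0 < m ∧ Nat.card V = q ^ (d * m) ∧ Nat.card B ∣ q ^ d - 1 ∧
      (centralizer (B : Set G)).index ∣ d ∧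
      (m = 1 → Semi (fun g v => ρ g v) ∧
        ∀ x ∈ centralizer (B : Set G), ∀ y ∈ centralizer (B : Set G), x * y = y * x) := by
  obtain ⟨R, _, _, _, d, hd, hR, hm, hV, hidx, ⟨ι, hι, -⟩, -, hone⟩ := exists_field_module ρ hρ htr B hB
  exact ⟨d, Module.finrank R V, hd, hm, hV, hR ▸ card_dvd_of_injective_monoidHom ι hι, hidx, hone⟩

end Cfsg.Agent.SolRegular
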