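import Cfsg.Agent.SolRegular.Field
import Cfsg.Agent.FPF25.Basics
import Cfsg.Agent.Core.Fitting
import Cfsg.Agent.Core.Solvable
import Cfsg.Agent.LocalStructure.SL23Iso

/-!
Solvable linear groups regular on the nonzero vectors.
-/

set_option autoImplicit false

namespace Cfsg.Agent.SolRegular

open Subgroup
open scoped commutatorElement

theorem q8_center : Fintype.card {x : QuaternionGroup 2 // ∀ y, y * x = x * y} = 2 := by decide

theorem q8_sum : ∀ y : QuaternionGroup 2, y * y = 1 → ∃ u v : QuaternionGroup 2, u * u ≠ 1 ∧ v * v ≠ 1 ∧ y = u * v := by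
  decide

theorem q8_rel : ∀ i j k : QuaternionGroup 2, i * i ≠ 1 → j * j ≠ 1 → k * k ≠ 1 → j ≠ i → j ≠ i⁻¹ → k ≠ i → k ≠ i⁻¹ →
    k ≠ j → k ≠ j⁻¹ →
    (i ^ 4 = 1 ∧ j * j = i * i ∧ j * i = i ^ 3 * j ∧ i⁻¹ ^ 4 = 1 ∧ j⁻¹ * j⁻¹ = i⁻¹ * i⁻¹ ∧
      j⁻¹ * i⁻¹ = i⁻¹ ^ 3 * j⁻¹) ∧ (k = i * j ∨ k⁻¹ = i⁻¹ * j⁻¹) := by
  decide

set_option synthInstance.maxSize 4096 in
theorem q8_gen : ∀ i j : QuaternionGroup 2, i * i ≠ 1 → j * j ≠ 1 → j ≠ i → j ≠ i⁻¹ →
    ∀ y, ∃ a : Fin 4, ∃ b : Fin 2, i ^ (a : ℕ) * j ^ (b : ℕ) = y := by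
  decide

theorem q8_four : ∀ y : QuaternionGroup 2, y * y ≠ 1 → y * y * (y * y) = 1 := by decide

theorem q8_invol : ∀ y z : QuaternionGroup 2, y * y = 1 → y ≠ 1 → z * z = 1 → z ≠ 1 → y = z := by decide

section

variable {G : Type*} [Group G] [Finite G]

theorem pCore_odd_le (h : FPF25.HasFPF G) [Group.IsSolvable G] {r : ℕ} [Fact r.Prime]
    (hr : r ≠ 2 ∨ ∀ a ∈ Cfsg.pCore r G, ∀ b ∈ Cfsg.pCore r G, a * b = b * a) :
    Cfsg.pCore r G ≤ centralizer (Cfsg.fittingSubgroup G : Set G) := by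
  rw [le_centralizer_iff, Core.fittingSubgroup_eq_iSup_pCore]
  refine iSup_le fun s => ?_
  haveI : Fact (Nat.Prime s) := ⟨s.2⟩
  intro x hx
  refine mem_centralizer_iff.2 fun y hy => ?_
  by_cases hs : (s : ℕ) = r
  · rcases hr with hr | hr
    · haveI := h.isCyclic_of_odd hr (P := Cfsg.pCore r G) Core.pCore_isPGroup
      letI := IsCyclic.commGroup (α := Cfsg.pCore r G)
      exact congrArg Subtype.val (mul_comm (⟨y, hy⟩ : Cfsg.pCore r G) ⟨x, hs ▸ hx⟩)
    · exact hr y hy x (hs ▸ hx)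
  · exact (Subgroup.commute_of_normal_of_disjoint _ _ inferInstance inferInstance
      (IsPGroup.disjoint_of_ne r s (Ne.symm hs) _ _ Core.pCore_isPGroup Core.pCore_isPGroup) y x hy hx).eq

theorem ker_conjNormal (Q : Subgroup G) [Q.Normal] :
    (MulAut.conjNormal (H := Q)).ker = centralizer (Q : Set G) := by
  ext x
  rw [MonoidHom.mem_ker, mem_centralizer_iff]
  constructor
  · intro hx y hy
    have h1 := congrArg Subtype.val (DFunLike.congr_fun hx ⟨y, hy⟩)
    rw [MulAut.conjNormal_apply, MulAut.one_apply] at h1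
    exact (mul_inv_eq_iff_eq_mul.1 h1).symm
  · intro hx
    refine MulEquiv.ext fun y => Subtype.ext ?_
    rw [MulAut.conjNormal_apply, MulAut.one_apply, ← hx y y.2, mul_inv_cancel_right]

theorem fitting_le (h : FPF25.HasFPF G) [Group.IsSolvable G] :
    Cfsg.fittingSubgroup G ≤ Cfsg.pCore 2 G ⊔ centralizer (Cfsg.fittingSubgroup G : Set G) := by
  conv_lhs => rw [Core.fittingSubgroup_eq_iSup_pCore]
  refine iSup_le fun s => ?_
  by_cases hs : (s : ℕ) = 2
  · rw [hs]; exact le_sup_left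
  · haveI : Fact (Nat.Prime s) := ⟨s.2⟩
    exact (pCore_odd_le h (Or.inl hs)).trans le_sup_right

/-- A cyclic normal subgroup of index two in the 2-core gives a self-centralizing abelian normal subgroup. -/
theorem exists_self_centralizing (h : FPF25.HasFPF G) [Group.IsSolvable G]
    (hnc : ¬ ∀ a ∈ Cfsg.pCore 2 G, ∀ b ∈ Cfsg.pCore 2 G, a * b = b * a)
    (T : Subgroup G) [T.Normal] (hTQ : T ≤ Cfsg.pCore 2 G) (hTc : ∀ a ∈ T, ∀ b ∈ T, a * b = b * a)
    (hT2 : T.relIndex (Cfsg.pCore 2 G) = 2) :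
    ∃ B : Subgroup G, B.Normal ∧ (∀ a ∈ B, ∀ b ∈ B, a * b = b * a) ∧ centralizer (B : Set G) ≤ B := by
  set Q := Cfsg.pCore 2 G with hQ
  haveI : Fact (Nat.Prime 2) := ⟨Nat.prime_two⟩
  set F := Cfsg.fittingSubgroup G with hF
  set Z := centralizer (F : Set G) with hZ
  have hZF : Z ≤ F := Core.centralizer_fittingSubgroup_le
  have hQF : Q ≤ F := Core.pCore_le_fittingSubgroup 2
  have htwo : ∀ x y : G, x ∈ Q → y ∈ Q → x ∉ T → y ∉ T → x * y ∈ T := by
    intro x y hx hy hxT hyT
    have h1 := Subgroup.mul_mem_iff_of_index_two (H := T.subgroupOf Q) hT2 (a := ⟨x, hx⟩) (b := ⟨y, hy⟩)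
    simp only [mem_subgroupOf, Subgroup.coe_mul] at h1
    exact h1.2 ⟨fun e => absurd e hxT, fun e => absurd e hyT⟩
  set B := T ⊔ Z with hB
  refine ⟨B, inferInstance, ?_, ?_⟩
  · intro a ha b hb
    obtain ⟨t, ht, z, hz, rfl⟩ := mem_sup_of_normal_right.1 ha
    obtain ⟨t', ht', z', hz', rfl⟩ := mem_sup_of_normal_right.1 hb
    have c1 : Commute t t' := hTc t ht t' ht'
    have c2 : Commute t z' := mem_centralizer_iff.1 hz' t (hQF (hTQ ht))
    have c3 : Commute z t' := (mem_centralizer_iff.1 hz t' (hQF (hTQ ht'))).symm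
    have c4 : Commute z z' := mem_centralizer_iff.1 hz' z (hZF hz)
    exact ((c1.mul_right c2).mul_left (c3.mul_right c4)).eq
  set D := centralizer (B : Set G) with hD
  have hDT : ∀ d ∈ D, ∀ t ∈ T, Commute t d := fun d hd t ht => mem_centralizer_iff.1 hd t (mem_sup_left ht)
  have hDZ : ∀ d ∈ D, ∀ z ∈ Z, Commute z d := fun d hd z hz => mem_centralizer_iff.1 hd z (mem_sup_right hz)
  have hshift : ∀ d ∈ D, ∀ x ∈ Q, ∃ t ∈ T, d * x * d⁻¹ = x * t := by
    intro d hd x hx
    refine ⟨x⁻¹ * (d * x * d⁻¹), ?_, by group⟩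
    by_cases hxT : x ∈ T
    · exact T.mul_mem (T.inv_mem hxT) ((inferInstance : T.Normal).conj_mem x hxT d)
    · refine htwo _ _ (Q.inv_mem hx) ((inferInstance : Q.Normal).conj_mem x hx d) (by simpa using hxT) fun e => hxT ?_
      have := (inferInstance : T.Normal).conj_mem _ e d⁻¹
      simpa [mul_assoc] using this
  have hsame : ∀ a ∈ D, ∀ b ∈ D, ∀ x ∈ Q, (a * b) * x * (a * b)⁻¹ = (b * a) * x * (b * a)⁻¹ := by
    intro a ha b hb x hx
    obtain ⟨t, ht, h1⟩ := hshift a ha x hx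
    obtain ⟨s, hs, h2⟩ := hshift b hb x hx
    rw [show a * b * x * (a * b)⁻¹ = a * (b * x * b⁻¹) * a⁻¹ by group,
      show b * a * x * (b * a)⁻¹ = b * (a * x * a⁻¹) * b⁻¹ by group, h1, h2,
      show a * (x * s) * a⁻¹ = (a * x * a⁻¹) * (a * s * a⁻¹) by group,
      show b * (x * t) * b⁻¹ = (b * x * b⁻¹) * (b * t * b⁻¹) by group, h1, h2,
      ← (hDT a ha s hs).eq, mul_inv_cancel_right, ← (hDT b hb t ht).eq, mul_inv_cancel_right, mul_assoc, mul_assoc,
      hTc t ht s hs]
  have hDF : D ≤ F := by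
    refine Core.le_fittingSubgroup (Core.isNilpotent_of_commutator_le_center (C := Z) ?_ fun d hd =>
      mem_centralizer_iff.2 fun z hz => hDZ d hd z hz)
    rw [commutator_le]
    intro a ha b hb
    have hab : ⁅a, b⁆ ∈ D := commutator_le_self D (commutator_mem_commutator ha hb)
    refine mem_centralizer_iff.2 fun y hy => ?_
    obtain ⟨x, hx, z, hz, rfl⟩ := mem_sup_of_normal_right.1 (fitting_le h hy)
    have hfix : Commute x ⁅a, b⁆ := by
      set X := a * b
      set Y := b * a with hY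
      have hx' : Y⁻¹ * x * Y ∈ Q := by simpa using (inferInstance : Q.Normal).conj_mem x hx Y⁻¹
      have h1 := hsame a ha b hb _ hx'
      rw [← hY, show Y * (Y⁻¹ * x * Y) * Y⁻¹ = x by group] at h1
      have h2 : ⁅a, b⁆ = X * Y⁻¹ := by rw [commutatorElement_def, hY]; simp [X]; group
      show x * ⁅a, b⁆ = ⁅a, b⁆ * x
      rw [h2]
      conv_lhs => rw [← h1]
      simp only [mul_assoc, inv_mul_cancel_left, inv_mul_cancel, mul_inv_rev, mul_one, X]
      group
    exact (hfix.mul_left (hDZ _ hab z hz)).eq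
  intro d hd
  obtain ⟨x, hx, z, hz, rfl⟩ := mem_sup_of_normal_right.1 (fitting_le h (hDF hd))
  refine mul_mem_sup ?_ hz
  by_contra hxT
  refine hnc ?_
  have hxc : ∀ t ∈ T, Commute t x := fun t ht => by
    have h1 := hDT _ hd t ht
    have h2 : Commute t z := mem_centralizer_iff.1 hz t (hQF (hTQ ht))
    simpa using h1.mul_right h2.inv_right
  have hdec : ∀ u ∈ Q, ∃ t ∈ T, ∃ e : ℕ, u = x ^ e * t := by
    intro u hu
    by_cases huT : u ∈ T
    · exact ⟨u, huT, 0, by simp⟩
    · exact ⟨x⁻¹ * u, htwo _ _ (Q.inv_mem hx) hu (by simpa using hxT) huT, 1, by simp⟩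
  intro u hu w hw
  obtain ⟨t, ht, e, rfl⟩ := hdec u hu
  obtain ⟨s, hs, f, rfl⟩ := hdec w hw
  exact ((((Commute.refl x).pow_pow e f).mul_right ((hxc s hs).symm.pow_left e)).mul_left
    (((hxc t ht).pow_right f).mul_right (hTc t ht s hs))).eq

theorem card_mulAut_dvd_twenty_four (h : FPF25.HasFPF G) {P : Subgroup G} (hP : Nat.card P = 8) :
    Nat.card (MulAut P) ∣ 24 := by
  haveI : Fact (Nat.Prime 2) := ⟨Nat.prime_two⟩
  have hn : Nat.card P = 2 ^ 3 := hP
  obtain ⟨a, b, hab⟩ := h.exists_two_generators (IsPGroup.of_card hn)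
  obtain ⟨r, -, hr⟩ := (Nat.dvd_prime_pow Nat.prime_two).mp
    (hn ▸ (frattini P).index_dvd_card : (frattini P).index ∣ 2 ^ 3)
  obtain ⟨hcomm, hexp⟩ := FGS.frattini_quotient_props hn
  have hle := FGS.card_closure_le hcomm hexp 2 ![(a : P ⧸ frattini P), (b : P ⧸ frattini P)]
  have htop : closure (Set.range ![(a : P ⧸ frattini P), (b : P ⧸ frattini P)]) = ⊤ := by
    have h1 : Set.range ![(a : P ⧸ frattini P), (b : P ⧸ frattini P)] =
        QuotientGroup.mk' (frattini P) '' ({a, b} : Set P) := by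
      rw [Matrix.range_cons_cons_empty, Set.image_pair]
      rfl
    rw [h1, ← MonoidHom.map_closure, hab, ← MonoidHom.range_eq_map,
      MonoidHom.range_eq_top.mpr (QuotientGroup.mk'_surjective _)]
  rw [htop, card_top, ← index_eq_card, hr] at hle
  have hr2 : r ≤ 2 := (Nat.pow_le_pow_iff_right (by norm_num)).mp hle
  refine (FGS.card_mulAut_dvd hn hr).trans ?_
  interval_cases r <;> decide

/-- Either an abelian normal subgroup is self-centralizing, or a quaternion 2-core is permuted by an element of order 3. -/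
theorem fitting_cases (h : FPF25.HasFPF G) [Group.IsSolvable G] :
    (∃ B : Subgroup G, B.Normal ∧ (∀ a ∈ B, ∀ b ∈ B, a * b = b * a) ∧ centralizer (B : Set G) ≤ B) ∨
    (Nonempty (↥(Cfsg.pCore 2 G) ≃* QuaternionGroup 2) ∧
      3 ∣ (centralizer (Cfsg.pCore 2 G : Set G)).index) := by
  haveI : Fact (Nat.Prime 2) := ⟨Nat.prime_two⟩
  set Q := Cfsg.pCore 2 G with hQ
  by_cases hnc : ∀ a ∈ Q, ∀ b ∈ Q, a * b = b * a
  · left
    set F := Cfsg.fittingSubgroup G with hF
    set Z := centralizer (F : Set G) with hZ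
    have hFZ : F ≤ Z := (fitting_le h).trans (sup_le (pCore_odd_le h (Or.inr hnc)) le_rfl)
    exact ⟨F, inferInstance, fun a ha b hb => mem_centralizer_iff.1 (hFZ hb) a ha,
      Core.centralizer_fittingSubgroup_le⟩
  rcases h.cyclic_or_quaternion (P := Q) Core.pCore_isPGroup with hc | ⟨-, k, hk, ⟨e⟩⟩
  · refine absurd (fun a ha b hb => ?_) hnc
    letI := IsCyclic.commGroup (α := Q)
    exact congrArg Subtype.val (mul_comm (⟨a, ha⟩ : Q) ⟨b, hb⟩)
  have hQc : Nat.card Q = 4 * 2 ^ k := by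
    rw [Nat.card_congr e.toEquiv, Nat.card_eq_fintype_card, QuaternionGroup.card]
  rcases (show k = 1 ∨ 2 ≤ k by omega) with rfl | hk2
  · by_cases h3 : 3 ∣ (centralizer (Q : Set G)).index
    · exact Or.inr ⟨⟨e⟩, h3⟩
    left
    obtain ⟨P0⟩ := (inferInstance : Nonempty (Sylow 2 G))
    haveI : Group.IsNilpotent (P0 : Subgroup G) := P0.isPGroup'.isNilpotent
    have hQP : Q ≤ P0 := Core.pCore_le_sylow P0
    -- `P0` and the centraliser generate
    have hgen : (P0 : Subgroup G) ⊔ centralizer (Q : Set G) = ⊤ := by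
      have hd : (centralizer (Q : Set G)).index ∣ 24 := by
        rw [← ker_conjNormal, index_ker]
        exact (card_subgroup_dvd_card _).trans (card_mulAut_dvd_twenty_four h hQc)
      have hd8 : (centralizer (Q : Set G)).index ∣ 2 ^ 3 :=
        (Nat.Coprime.dvd_of_dvd_mul_right ((Nat.Prime.coprime_iff_not_dvd Nat.prime_three).2 h3).symm hd)
      refine index_eq_one.1 (Nat.eq_one_of_dvd_coprimes (a := (P0 : Subgroup G).index) (b := 2 ^ 3) ?_
        (index_dvd_of_le le_sup_left) ((index_dvd_of_le le_sup_right).trans hd8))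
      exact ((Nat.Prime.coprime_iff_not_dvd Nat.prime_two).2 (Sylow.not_dvd_index P0)).symm.pow_right 3
    -- a normal cyclic subgroup of order 4 in the Sylow subgroup
    set Q' := Q.subgroupOf (P0 : Subgroup G) with hQ'
    set z : Q := e.symm (QuaternionGroup.a 2) with hz
    have hz2 : (z : G) * z = 1 ∧ (z : G) ≠ 1 := by
      refine ⟨?_, fun e1 => ?_⟩
      · rw [← Subgroup.coe_mul, hz, ← map_mul, show (QuaternionGroup.a 2 : QuaternionGroup 2) * .a 2 = 1 by decide,
          map_one, OneMemClass.coe_one]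
      · have : z = 1 := Subtype.ext e1
        rw [hz, EmbeddingLike.map_eq_one_iff] at this
        exact absurd this (by decide)
    have hinv : ∀ y : G, y ∈ Q → y * y = 1 → y ≠ 1 → y = z := by
      intro y hy h1 h2
      refine congrArg Subtype.val (e.injective (q8_invol (e ⟨y, hy⟩) (e z) ?_ ?_ ?_ ?_) : (⟨y, hy⟩ : Q) = z)
      · rw [← map_mul, EmbeddingLike.map_eq_one_iff]; exact Subtype.ext h1
      · rw [ne_eq, EmbeddingLike.map_eq_one_iff]; exact fun e1 => h2 (congrArg Subtype.val e1)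
      · rw [← map_mul, EmbeddingLike.map_eq_one_iff]; exact Subtype.ext hz2.1
      · rw [ne_eq, EmbeddingLike.map_eq_one_iff]; exact fun e1 => hz2.2 (congrArg Subtype.val e1)
    have hzc : ∀ g : G, g * z * g⁻¹ = z := fun g => hinv _ ((inferInstance : Q.Normal).conj_mem _ z.2 g)
      (by rw [show g * (z : G) * g⁻¹ * (g * z * g⁻¹) = g * ((z : G) * z) * g⁻¹ by group, hz2.1]; group)
      (fun e1 => hz2.2 (by simpa using e1))
    set Z0 := zpowers (⟨z, hQP z.2⟩ : (P0 : Subgroup G)) with hZ0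
    haveI : Z0.Normal := ⟨fun a ha g => by
      obtain ⟨j, rfl⟩ := mem_zpowers_iff.1 ha
      rw [← conj_zpow, show g * (⟨z, hQP z.2⟩ : (P0 : Subgroup G)) * g⁻¹ = ⟨z, hQP z.2⟩ from Subtype.ext (hzc g)]
      exact zpow_mem (mem_zpowers _) j⟩
    set π := QuotientGroup.mk' Z0 with hπ
    haveI : (Q'.map π).Normal := Normal.map inferInstance π (QuotientGroup.mk'_surjective Z0)
    have hne : Q'.map π ≠ ⊥ := fun hb => by
      rw [Subgroup.map_eq_bot_iff, QuotientGroup.ker_mk'] at hb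
      have h1 := card_le_of_le hb
      rw [Nat.card_congr (subgroupOfEquivOfLe hQP).toEquiv, hQc, hZ0, Nat.card_zpowers,
        orderOf_eq_prime (x := (⟨z, hQP z.2⟩ : (P0 : Subgroup G))) (p := 2)
          (Subtype.ext (by rw [SubgroupClass.coe_pow, sq]; exact hz2.1))
          (fun e1 => hz2.2 (congrArg Subtype.val e1))] at h1
      omega
    obtain ⟨⟨u, hu⟩, hu1⟩ := Subgroup.ne_bot_iff_exists_ne_one.1 (Core.inf_center_ne_bot hne)
    obtain ⟨⟨x, hx, rfl⟩, hcent⟩ := hu
    have hxQ : (x : G) ∈ Q := hx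
    have hxZ : x ∉ Z0 := fun hx' => hu1 (Subtype.ext ((QuotientGroup.eq_one_iff x).2 hx'))
    have hx2 : (x : G) * x ≠ 1 := fun e1 => by
      by_cases hx1 : (x : G) = 1
      · exact hxZ (by rw [show x = 1 from Subtype.ext hx1]; exact one_mem _)
      · exact hxZ (by rw [show x = ⟨z, hQP z.2⟩ from Subtype.ext (hinv _ hxQ e1 hx1)]; exact mem_zpowers _)
    have hx4 : (x : G) * x * ((x : G) * x) = 1 := by
      have := q8_four (e ⟨x, hxQ⟩) fun e1 => hx2 (by
        rw [← map_mul, EmbeddingLike.map_eq_one_iff] at e1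
        exact congrArg Subtype.val e1)
      rw [← map_mul, ← map_mul, EmbeddingLike.map_eq_one_iff] at this
      exact congrArg Subtype.val this
    have hxz : (x : G) * x = z := hinv _ (Q.mul_mem hxQ hxQ) hx4 hx2
    set T := zpowers (x : G) with hT
    have hTn : T.Normal := by
      rw [← normalizer_eq_top_iff, eq_top_iff, ← hgen, sup_le_iff]
      constructor
      · intro g hg
        rw [mem_normalizer_iff_map_conj_eq, hT, MonoidHom.map_zpowers]
        set g' : (P0 : Subgroup G) := ⟨g, hg⟩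
        have h1 : x⁻¹ * (g' * x * g'⁻¹) ∈ Z0 := by
          rw [← QuotientGroup.eq_one_iff, ← QuotientGroup.mk'_apply, map_mul, map_mul, map_mul, map_inv, map_inv,
            ← hπ, mem_center_iff.1 hcent (π g'), mul_inv_cancel_right, inv_mul_cancel]
        have h2 : (MulAut.conj g).toMonoidHom (x : G) ∈ zpowers (x : G) := by
          show g * (x : G) * g⁻¹ ∈ _
          obtain ⟨j, hj⟩ := mem_zpowers_iff.1 h1
          have h3 : g * (x : G) * g⁻¹ = x * (z : G) ^ j := by
            have := congrArg Subtype.val hj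
            simp only [SubgroupClass.coe_zpow, Subgroup.coe_mul, Subgroup.coe_inv] at this
            rw [this]; group
            rfl
          rw [h3, ← hxz]
          exact mul_mem (mem_zpowers _) (zpow_mem (mul_mem (mem_zpowers _) (mem_zpowers _)) j)
        refine eq_of_le_of_card_ge (zpowers_le.2 h2) (le_of_eq ?_)
        rw [Nat.card_zpowers, Nat.card_zpowers]
        exact (MulEquiv.orderOf_eq (MulAut.conj g) (x : G)).symm
      · intro g hg
        rw [mem_normalizer_iff_map_conj_eq, hT, MonoidHom.map_zpowers]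
        congr 1
        show g * (x : G) * g⁻¹ = x
        rw [← mem_centralizer_iff.1 hg _ hxQ, mul_inv_cancel_right]
    have hox : orderOf (x : G) = 4 := by
      refine orderOf_eq_prime_pow (p := 2) (n := 1) ?_ ?_
      · rw [pow_one, sq]; exact hx2
      · rw [show (2 : ℕ) ^ (1 + 1) = 2 + 2 from rfl, pow_add, sq]; exact hx4
    refine exists_self_centralizing h hnc T (zpowers_le.2 hxQ) (fun a ha b hb => ?_) ?_
    · obtain ⟨i, rfl⟩ := mem_zpowers_iff.1 ha
      obtain ⟨j, rfl⟩ := mem_zpowers_iff.1 hb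
      exact ((Commute.refl _).zpow_zpow i j).eq
    · have h1 := card_mul_index (T.subgroupOf Q)
      rw [Nat.card_congr (subgroupOfEquivOfLe (zpowers_le.2 hxQ : T ≤ Q)).toEquiv, hQc, hT, Nat.card_zpowers, hox] at h1
      show ((zpowers (x : G)).subgroupOf Q).index = 2
      omega
  · left
    set a : Q := e.symm (QuaternionGroup.a 1) with ha
    have hoa : orderOf (a : G) = 2 * 2 ^ k := by
      rw [Subgroup.orderOf_coe, ha, e.symm.orderOf_eq, QuaternionGroup.orderOf_a_one]
    have hbig : ∀ y : G, ∀ hy : y ∈ Q, 4 < orderOf y → y ∈ zpowers (a : G) := by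
      intro y hy hlt
      rcases hey : e ⟨y, hy⟩ with i | i
      · refine ⟨(i.val : ℤ), ?_⟩
        have : a ^ i.val = ⟨y, hy⟩ := by
          rw [ha, ← map_pow, QuaternionGroup.a_one_pow, ZMod.natCast_zmod_val, ← hey, e.symm_apply_apply]
        show (a : G) ^ (i.val : ℤ) = y
        rw [zpow_natCast, ← SubgroupClass.coe_pow, this]
      · exfalso
        have : orderOf y = 4 := by
          rw [← Subgroup.orderOf_mk y hy, ← e.orderOf_eq, hey, QuaternionGroup.orderOf_xa]
        omega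
    haveI : (zpowers (a : G)).Normal := ⟨fun y hy g => by
      obtain ⟨j, rfl⟩ := mem_zpowers_iff.1 hy
      rw [← conj_zpow]
      refine zpow_mem (hbig _ ((inferInstance : Q.Normal).conj_mem _ a.2 g) ?_) j
      rw [show orderOf (g * (a : G) * g⁻¹) = orderOf (a : G) from MulEquiv.orderOf_eq (MulAut.conj g) _, hoa]
      have : 2 ^ 2 ≤ 2 ^ k := Nat.pow_le_pow_right (by norm_num) hk2
      omega⟩
    refine exists_self_centralizing h hnc (zpowers (a : G)) (zpowers_le.2 a.2) (fun u hu w hw => ?_) ?_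
    · obtain ⟨i, rfl⟩ := mem_zpowers_iff.1 hu
      obtain ⟨j, rfl⟩ := mem_zpowers_iff.1 hw
      exact ((Commute.refl _).zpow_zpow i j).eq
    · have h1 := card_mul_index ((zpowers (a : G)).subgroupOf Q)
      rw [Nat.card_congr (subgroupOfEquivOfLe (zpowers_le.2 a.2)).toEquiv, hQc, Nat.card_zpowers, hoa] at h1
      show ((zpowers (a : G)).subgroupOf Q).index = 2
      exact Nat.eq_of_mul_eq_mul_left (show 0 < 2 * 2 ^ k by positivity) (h1.trans (by ring))

/-- The exceptional groups with `12` in place of `24`. -/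
theorem sl23_of_quaternion {Q : Subgroup G} [Q.Normal] (e : Q ≃* QuaternionGroup 2) {c : G} (hc : c ^ 3 = 1)
    (hcn : c ∉ centralizer (Q : Set G)) :
    ∃ H : Subgroup G, Nonempty (H ≃* Matrix.SpecialLinearGroup (Fin 2) (ZMod 3)) := by
  let γ : Q → Q := fun y => ⟨c * y * c⁻¹, (inferInstance : Q.Normal).conj_mem _ y.2 c⟩
  have hγ3 : ∀ y, γ (γ (γ y)) = y := fun y => Subtype.ext (by
    show c * (c * (c * y * c⁻¹) * c⁻¹) * c⁻¹ = (y : G)
    rw [show c * (c * (c * (y : G) * c⁻¹) * c⁻¹) * c⁻¹ = (c * c * c) * y * (c * c * c)⁻¹ by group,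
      ← pow_three', hc]
    simp)
  have hγm : ∀ u v, γ (u * v) = γ u * γ v := fun u v => Subtype.ext (by
    show c * ((u : G) * v) * c⁻¹ = c * u * c⁻¹ * (c * v * c⁻¹); group)
  have hγi : ∀ u, γ u⁻¹ = (γ u)⁻¹ := fun u => Subtype.ext (by
    show c * (u : G)⁻¹ * c⁻¹ = (c * u * c⁻¹)⁻¹; group)
  obtain ⟨i, hi2, hmv⟩ : ∃ i : Q, i * i ≠ 1 ∧ γ i ≠ i := by
    by_contra! hall
    refine hcn (mem_centralizer_iff.2 fun y hy => ?_)
    have hfix : γ ⟨y, hy⟩ = ⟨y, hy⟩ := by
      by_cases h2 : (⟨y, hy⟩ : Q) * ⟨y, hy⟩ = 1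
      · obtain ⟨u, v, hu, hv, huv⟩ := q8_sum (e ⟨y, hy⟩) (by rw [← map_mul, h2, map_one])
        have hy' : (⟨y, hy⟩ : Q) = e.symm u * e.symm v := by rw [← map_mul, ← huv, e.symm_apply_apply]
        rw [hy', hγm, hall (e.symm u) fun h' => hu ?_, hall (e.symm v) fun h' => hv ?_]
        · simpa [← map_mul] using h'
        · simpa [← map_mul] using h'
      · exact hall _ h2
    exact (mul_inv_eq_iff_eq_mul.1 (congrArg Subtype.val hfix : c * y * c⁻¹ = y)).symm
  set j := γ i with hj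
  set k := γ j with hk
  have hki : γ k = i := hγ3 i
  have hsq : ∀ u : Q, γ u * γ u = 1 → u * u = 1 := fun u hu => by
    rw [← hγm] at hu
    have := congrArg γ (congrArg γ hu)
    rw [hγ3] at this
    rw [this]
    exact Subtype.ext (by show c * (c * (1 : G) * c⁻¹) * c⁻¹ = 1; group)
  have hj2 : j * j ≠ 1 := fun h => hi2 (hsq i h)
  have hk2 : k * k ≠ 1 := fun h => hj2 (hsq j h)
  have hji : j ≠ i⁻¹ := fun h => hi2 (by
    have h1 : k = i := by rw [hk, h, hγi, ← hj, h, inv_inv]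
    have h2 : i = j := by rw [← hki, h1]
    rw [mul_eq_one_iff_eq_inv]; exact h2.trans h)
  have hk_i : k ≠ i := fun h => hmv (by
    have h1 := hki
    rw [h] at h1
    exact h1)
  have hk_i' : k ≠ i⁻¹ := fun h => hji (by
    have h1 : i = j⁻¹ := by rw [← hki, h, hγi]
    rw [h1, inv_inv])
  have hk_j : k ≠ j := fun h => hmv (by
    have h1 := congrArg (fun u => γ (γ u)) h
    simp only [hk, hj, hγ3] at h1
    exact h1)
  have hk_j' : k ≠ j⁻¹ := fun h => hji (by
    have h1 := congrArg (fun u => γ (γ u)) h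
    simp only [hk, hj, hγ3, hγi] at h1
    exact h1)
  have ne : ∀ {u v : Q}, u ≠ v → e u ≠ e v := fun h h' => h (e.injective h')
  have ne1 : ∀ {u : Q}, u * u ≠ 1 → e u * e u ≠ 1 := fun h h' => h (e.injective (by rw [map_mul, h', map_one]))
  obtain ⟨⟨r1, r2, r3, r4, r5, r6⟩, hor⟩ := q8_rel (e i) (e j) (e k) (ne1 hi2) (ne1 hj2) (ne1 hk2) (ne hmv)
    (by rw [← map_inv]; exact ne hji) (ne hk_i) (by rw [← map_inv]; exact ne hk_i') (ne hk_j)
    (by rw [← map_inv]; exact ne hk_j')
  have lift : ∀ {u v : Q}, e u = e v → (u : G) = v := fun h => congrArg Subtype.val (e.injective h)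
  obtain ⟨i', j', hrel, hi', hj', hne', hne''⟩ : ∃ i' j' : Q, LocalStructure.BTRel (i' : G) j' c ∧ i' * i' ≠ 1 ∧
      j' * j' ≠ 1 ∧ j' ≠ i' ∧ j' ≠ i'⁻¹ := by
    rcases hor with hor | hor
    · refine ⟨i, j, ⟨?_, ?_, ?_, hc, ?_, ?_⟩, hi2, hj2, hmv, hji⟩
      · exact lift (u := i ^ 4) (v := 1) (by rw [map_pow, map_one, r1])
      · exact lift (u := j * j) (v := i * i) (by rw [map_mul, map_mul, r2])
      · exact lift (u := j * i) (v := i ^ 3 * j) (by rw [map_mul, map_mul, map_pow, r3])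
      · show c * (i : G) = c * i * c⁻¹ * c; group
      · have h1 : (k : G) = (i : G) * j := lift (u := k) (v := i * j) (by rw [map_mul, hor])
        rw [← h1]
        show c * (j : G) = c * j * c⁻¹ * c; group
    · refine ⟨i⁻¹, j⁻¹, ⟨?_, ?_, ?_, hc, ?_, ?_⟩, ?_, ?_, ?_, ?_⟩
      · exact lift (u := i⁻¹ ^ 4) (v := 1) (by rw [map_pow, map_one, map_inv, r4])
      · exact lift (u := j⁻¹ * j⁻¹) (v := i⁻¹ * i⁻¹) (by rw [map_mul, map_mul, map_inv, map_inv, r5])
      · exact lift (u := j⁻¹ * i⁻¹) (v := i⁻¹ ^ 3 * j⁻¹) (by rw [map_mul, map_mul, map_pow, map_inv, map_inv, r6])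
      · show c * (i : G)⁻¹ = (c * i * c⁻¹)⁻¹ * c; group
      · have h1 : (k : G)⁻¹ = (i : G)⁻¹ * (j : G)⁻¹ :=
          lift (u := k⁻¹) (v := i⁻¹ * j⁻¹) (by rw [map_mul, map_inv, map_inv, map_inv, hor])
        show c * (j : G)⁻¹ = (i : G)⁻¹ * (j : G)⁻¹ * c
        rw [← h1]
        show c * (j : G)⁻¹ = (c * j * c⁻¹)⁻¹ * c; group
      · rw [← mul_inv_rev]; exact inv_ne_one.2 hi2
      · rw [← mul_inv_rev]; exact inv_ne_one.2 hj2
      · simpa using hmv
      · rw [inv_inv]; intro h; exact hji (inv_eq_iff_eq_inv.1 h)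
  set H := closure ({(i' : G), (j' : G), c} : Set G) with hH
  have hi'H : (i' : G) ∈ H := subset_closure (by simp)
  have hj'H : (j' : G) ∈ H := subset_closure (by simp)
  have hcH : c ∈ H := subset_closure (by simp)
  refine ⟨H, LocalStructure.sl23_iso (i := (⟨i', hi'H⟩ : H)) (j := ⟨j', hj'H⟩) (x := ⟨c, hcH⟩) ?_ ?_ ?_⟩
  · obtain ⟨a1, a2, a3, a4, a5, a6⟩ := hrel
    exact ⟨Subtype.ext a1, Subtype.ext a2, Subtype.ext a3, Subtype.ext a4, Subtype.ext a5, Subtype.ext a6⟩
  · rw [eq_top_iff]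
    rintro ⟨y, hy⟩ -
    induction hy using closure_induction with
    | mem y hy =>
      refine subset_closure ?_
      rcases hy with rfl | rfl | rfl <;> simp
    | one => exact one_mem _
    | mul u v _ _ hu hv => exact mul_mem hu hv
    | inv u _ hu => exact inv_mem hu
  · have hQH : Q ≤ H := by
      intro y hy
      obtain ⟨a, b, hab'⟩ := q8_gen (e i') (e j') (ne1 hi') (ne1 hj') (ne hne')
        (by rw [← map_inv]; exact ne hne'') (e ⟨y, hy⟩)
      have hab := hab'.symm
      rw [← map_pow, ← map_pow, ← map_mul] at hab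
      rw [show y = (i' : G) ^ (a : ℕ) * (j' : G) ^ (b : ℕ) from congrArg Subtype.val (e.injective hab)]
      exact mul_mem (pow_mem hi'H _) (pow_mem hj'H _)
    have h8 : 8 ∣ Nat.card H := by
      have := card_dvd_of_le hQH
      rwa [Nat.card_congr e.toEquiv, Nat.card_eq_fintype_card, QuaternionGroup.card] at this
    have h3 : 3 ∣ Nat.card H := by
      refine dvd_trans (dvd_of_eq (orderOf_eq_prime (p := 3) hc fun h1 => ?_).symm) (Subgroup.orderOf_dvd_natCard H hcH)
      exact hcn (h1 ▸ one_mem _)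
    exact Nat.le_of_dvd Nat.card_pos (Nat.Coprime.mul_dvd_of_dvd_of_dvd (by norm_num) h8 h3)

end

variable {V : Type*} [AddCommGroup V] {q : ℕ} [hq : Fact q.Prime] [Module (ZMod q) V] [Finite V] [Nontrivial V]
variable {G : Type*} [Group G] [Finite G]

theorem small_q {q : ℕ} (hq : q.Prime) (hq5 : 5 ≤ q) (h : q + 1 ∣ 24) : q = 5 ∨ q = 7 ∨ q = 11 ∨ q = 23 := by
  have hle := Nat.le_of_dvd (by norm_num) h
  have hq23 : q ≤ 23 := by omega
  interval_cases q <;> omega

theorem small_q2 {q : ℕ} (hq5 : 5 ≤ q) (h : q * q + 1 ∣ 48) : False := by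
  have hle := Nat.le_of_dvd (by norm_num) h
  have hq6 : q ≤ 6 := by nlinarith
  interval_cases q <;> norm_num at h

theorem not_bound {q d : ℕ} (hq : 5 ≤ q) (hd : 3 ≤ d) : 24 * d < q ^ d + 1 := by
  have : 24 * d < 5 ^ d := by
    induction d, hd using Nat.le_induction with
    | base => norm_num
    | succ n hn ih => rw [pow_succ]; omega
  exact lt_of_lt_of_le (lt_of_lt_of_le this (Nat.pow_le_pow_left hq d)) (Nat.le_succ _)

theorem main (hsol : Group.IsSolvable G) (ρ : G →* (V ≃ₗ[ZMod q] V)) (hρ : Function.Injective ρ)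
    (htr : ∀ v w : V, v ≠ 0 → w ≠ 0 → ∃ g : G, ρ g v = w)
    (hreg : ∀ v : V, v ≠ 0 → ∀ g : G, ρ g v = v → g = 1) :
    (Semi (fun g v => ρ g v) ∨ Nat.card V ∈ ({25, 49, 121, 529} : Set ℕ)) ∧
    (q ≠ 2 → (∃ N : Subgroup G, N.Normal ∧ N.index = 2) ∨
      (Nat.card V = 25 ∧ Nonempty (G ≃* Matrix.SpecialLinearGroup (Fin 2) (ZMod 3))) ∨
      (Nat.card V = 121 ∧ Nonempty (G ≃* Matrix.SpecialLinearGroup (Fin 2) (ZMod 3) × Multiplicative (ZMod 5)))) := by
  classical
  haveI := hsol
  obtain ⟨v0, hv0⟩ := exists_ne (0 : V)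
  haveI : Module.Finite (ZMod q) V := Module.Finite.of_finite
  set n := Module.finrank (ZMod q) V with hn
  have hn0 : 0 < n := Module.finrank_pos
  have hVn : Nat.card V = q ^ n := by rw [Module.natCard_eq_pow_finrank (K := ZMod q), Nat.card_zmod]
  have hne : ∀ g v, v ≠ 0 → ρ g v ≠ 0 := fun g v hv => by simpa using hv
  have hG : Nat.card G + 1 = Nat.card V := by
    have h1 : Nat.card G = Nat.card {v : V // v ≠ 0} := Nat.card_eq_of_bijective
      (fun g => (⟨ρ g v0, hne g v0 hv0⟩ : {v : V // v ≠ 0})) ⟨fun a b h => by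
        have h' : ρ a v0 = ρ b v0 := congrArg Subtype.val h
        refine (inv_mul_eq_one.1 (hreg v0 hv0 (b⁻¹ * a) ?_)).symm
        rw [map_mul, LinearEquiv.mul_apply, h', ← LinearEquiv.mul_apply, ← map_mul, inv_mul_cancel, map_one]
        rfl, fun w => by
        obtain ⟨g, hg⟩ := htr v0 w hv0 w.2
        exact ⟨g, Subtype.ext hg⟩⟩
    rw [h1, show Nat.card {v : V // v ≠ 0} = (({(0 : V)} : Set V)ᶜ).ncard from Nat.card_coe_set_eq _,
      add_comm, ← Set.ncard_singleton (0 : V), Set.ncard_add_ncard_compl]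
  have hco : ¬ q ∣ Nat.card G := fun hd => by
    have : q ∣ 1 := (Nat.dvd_add_right hd).1 (hG ▸ hVn ▸ dvd_pow_self q hn0.ne')
    exact hq.out.one_lt.ne' (Nat.dvd_one.1 this)
  have hfpf : FPF25.HasFPF G := FPF25.hasFPF_of_module hco (fun g => (ρ g).toLinearMap.toAddMonoidHom)
    (fun w => by show ρ 1 w = w; rw [map_one]; rfl) (fun a b w => by show ρ (a * b) w = ρ a (ρ b w); rw [map_mul]; rfl)
    fun g w hg h => by_contra fun hw => hg (hreg w hw g h)
  have hindex : Semi (fun g v => ρ g v) → q ≠ 2 → ∃ N : Subgroup G, N.Normal ∧ N.index = 2 := fun hs hq2 =>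
    hs.index_two (fun g v => ρ g v) (fun v => by show ρ 1 v = v; rw [map_one]; rfl)
      (fun g h v => by show ρ (g * h) v = ρ g (ρ h v); rw [map_mul]; rfl) htr
      (hVn ▸ (hq.out.odd_of_ne_two hq2).pow)
  rcases fitting_cases hfpf with ⟨B, hBn, hBc, hBB⟩ | ⟨⟨e⟩, h3⟩
  · obtain ⟨d, m, hd, hm, hV, hB, hidx, hone⟩ := exists_field ρ hρ htr B hBc
    suffices hm1 : m = 1 from ⟨Or.inl (hone hm1).1, fun hq2 => Or.inl (hindex (hone hm1).1 hq2)⟩
    by_contra hm1
    have h1 : Nat.card G ≤ (q ^ d - 1) * d := by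
      rw [← card_mul_index (centralizer (B : Set G))]
      exact Nat.mul_le_mul ((card_le_of_le hBB).trans (Nat.le_of_dvd (by
        have := Nat.one_lt_pow hd.ne' hq.out.one_lt; omega) hB)) (Nat.le_of_dvd hd hidx)
    have h2 : q ^ d * q ^ d ≤ Nat.card V := by
      rw [hV, ← pow_add]
      exact Nat.pow_le_pow_right hq.out.pos (by rw [← two_mul, mul_comm]; exact Nat.mul_le_mul_left d (by omega))
    have h3 : d < q ^ d := Nat.lt_pow_self hq.out.one_lt
    have h4 : (q ^ d - 1) * d + 1 < q ^ d * q ^ d := by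
      obtain ⟨x, hx⟩ := Nat.exists_eq_add_of_le (Nat.one_lt_pow hd.ne' hq.out.one_lt : 1 < q ^ d)
      rw [hx] at h3 ⊢
      have : Nat.succ 1 + x - 1 = 1 + x := by omega
      rw [this]
      nlinarith
    omega
  -- the exceptional case
  haveI : Fact (Nat.Prime 2) := ⟨Nat.prime_two⟩
  set Q := Cfsg.pCore 2 G with hQ
  have hQc : Nat.card Q = 8 := by rw [Nat.card_congr e.toEquiv, Nat.card_eq_fintype_card, QuaternionGroup.card]
  set F := Cfsg.fittingSubgroup G with hF
  set Z := centralizer (F : Set G) with hZ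
  have hZF : Z ≤ F := Core.centralizer_fittingSubgroup_le
  have hQF : Q ≤ F := Core.pCore_le_fittingSubgroup 2
  obtain ⟨d, m, hd, hm, hV, hZd, hidx, hone⟩ :=
    exists_field ρ hρ htr Z fun a ha b hb => mem_centralizer_iff.1 hb a (hZF ha)
  set D := centralizer (Z : Set G) with hD
  have hQD : Q ≤ D := fun x hx => mem_centralizer_iff.2 fun z hz => (mem_centralizer_iff.1 hz x (hQF hx)).symm
  have hm1 : m ≠ 1 := fun hm1 => by
    have h1 : ∀ u v : Q, u * v = v * u := fun u v => Subtype.ext ((hone hm1).2 _ (hQD u.2) _ (hQD v.2))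
    have := congrArg e (h1 (e.symm (.a 1)) (e.symm (.xa 0)))
    simp only [map_mul, MulEquiv.apply_symm_apply] at this
    exact absurd this (by decide)
  have hker : ∀ x : G, x ∈ D → x ∈ centralizer (Q : Set G) → x ∈ Z := fun x hxD hxQ => by
    refine mem_centralizer_iff.2 fun y hy => ?_
    obtain ⟨u, hu, z, hz, rfl⟩ := mem_sup_of_normal_right.1 (fitting_le hfpf hy)
    exact (((show Commute u x from mem_centralizer_iff.1 hxQ u hu)).mul_left (mem_centralizer_iff.1 hxD z hz)).eq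
  have hZD : Z ≤ D := fun z hz => mem_centralizer_iff.2 fun w hw => mem_centralizer_iff.1 hz w (hZF hw)
  have hZQ : Z ≤ centralizer (Q : Set G) := centralizer_le hQF
  have hrel : Z.relIndex D ∣ 24 := by
    have h1 : Z.subgroupOf D = ((MulAut.conjNormal (H := Q)).comp D.subtype).ker := by
      rw [← MonoidHom.comap_ker, ker_conjNormal]
      ext x
      exact ⟨fun h => hZQ h, fun h => hker x x.2 h⟩
    show (Z.subgroupOf D).index ∣ 24
    rw [h1, index_ker]
    exact (card_subgroup_dvd_card _).trans (card_mulAut_dvd_twenty_four hfpf hQc)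
  have hcard : Nat.card G = Nat.card Z * Z.relIndex D * D.index := by
    rw [mul_assoc, relIndex_mul_index hZD, card_mul_index]
  have hdiv : Nat.card G ∣ (q ^ d - 1) * 24 * d := hcard ▸ mul_dvd_mul (mul_dvd_mul hZd hrel) hidx
  have h3G : 3 ∣ Nat.card G := h3.trans (index_dvd_card _)
  have hq2 : q ≠ 2 := fun h => hco (by
    rw [h]; exact (show (2 : ℕ) ∣ Nat.card Q by rw [hQc]; norm_num).trans (card_subgroup_dvd_card Q))
  have hq3 : q ≠ 3 := fun h => hco (h ▸ h3G)
  have hq5 : 5 ≤ q := by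
    have := hq.out.two_le
    rcases eq_or_ne q 4 with rfl | h4
    · exact absurd hq.out (by norm_num)
    · omega
  set A := q ^ d with hA
  have hA5 : 5 ≤ A := hq5.trans (Nat.le_self_pow hd.ne' q)
  have hm2 : m = 2 := by
    by_contra hm2
    have h1 : A * A * A ≤ Nat.card V := by
      rw [hV, hA, ← pow_add, ← pow_add]
      refine Nat.pow_le_pow_right hq.out.pos ?_
      have := Nat.mul_le_mul_left d (show 3 ≤ m by omega)
      omega
    have h2 := Nat.le_of_dvd (Nat.mul_pos (Nat.mul_pos (by omega) (by norm_num)) hd) hdiv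
    have h4 : 24 * d ≤ A * A := by
      rcases (show d = 1 ∨ d = 2 ∨ 3 ≤ d by omega) with h | h | h
      · subst h; have := Nat.mul_le_mul hA5 hA5; omega
      · subst h
        have h25 : 25 ≤ A := by
          rw [hA, sq]; exact Nat.mul_le_mul hq5 hq5
        have := Nat.mul_le_mul h25 h25; omega
      · have := not_bound (d := d) hq5 h
        have := Nat.le_mul_self A
        omega
    have h5 : (A - 1) * 24 * d + A * A ≤ A * A * A := by
      rw [mul_assoc]
      refine (Nat.add_le_add_right (Nat.mul_le_mul_left (A - 1) h4) _).trans (le_of_eq ?_)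
      rw [← Nat.succ_mul, Nat.succ_eq_add_one, Nat.sub_add_cancel (by omega), mul_assoc]
    have : 25 ≤ A * A := Nat.mul_le_mul hA5 hA5
    omega
  have hdvd : A + 1 ∣ 24 * d := by
    refine Nat.dvd_of_mul_dvd_mul_right (show 0 < A - 1 by omega) ?_
    have : Nat.card G = (A + 1) * (A - 1) := by
      rw [← Nat.sq_sub_sq, one_pow, sq, hA, ← pow_add, ← two_mul, mul_comm, ← hm2, ← hV]; omega
    rw [← this, show 24 * d * (A - 1) = (A - 1) * 24 * d by ring]
    exact hdiv
  have hd2 : d ≤ 2 := by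
    by_contra hd3
    have := not_bound (d := d) hq5 (by omega)
    exact absurd (Nat.le_of_dvd (by omega) hdvd) (by omega)
  have hmain : d = 1 ∧ m = 2 ∧ (q = 5 ∨ q = 7 ∨ q = 11 ∨ q = 23) := by
    rcases (show d = 1 ∨ d = 2 by omega) with h | h
    · refine ⟨h, hm2, small_q hq.out hq5 ?_⟩
      simpa [hA, h] using hdvd
    · exact (small_q2 hq5 (by simpa [hA, h, sq] using hdvd)).elim
  obtain ⟨rfl, rfl, hqs⟩ := hmain
  have hDtop : D = ⊤ := index_eq_one.1 (Nat.dvd_one.1 hidx)
  have hCQ : centralizer (Q : Set G) = Z := le_antisymm (fun x hx => hker x (hDtop ▸ mem_top x) hx) hZQ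
  have hr24 : Z.index ∣ 24 := by rwa [hDtop, relIndex_top_right] at hrel
  have hZQi : Z.relIndex Q = 4 := by
    have h1 := card_mul_index (Z.subgroupOf Q)
    have h2 : Nat.card (Z.subgroupOf Q) = 2 := by
      rw [← q8_center, ← Nat.card_eq_fintype_card]
      refine Nat.card_congr (e.toEquiv.subtypeEquiv fun x => ?_)
      show x ∈ Z.subgroupOf Q ↔ _
      rw [mem_subgroupOf, ← hCQ, mem_centralizer_iff]
      constructor
      · intro h y
        obtain ⟨y, rfl⟩ := e.surjective y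
        show e y * e x = e x * e y
        rw [← map_mul, ← map_mul, show y * x = x * y from Subtype.ext (h y y.2)]
      · intro h y hy
        have := h (e ⟨y, hy⟩)
        change e ⟨y, hy⟩ * e x = e x * e ⟨y, hy⟩ at this
        rw [← map_mul, ← map_mul] at this
        exact congrArg Subtype.val (e.injective this)
    rw [h2, hQc] at h1
    show (Z.subgroupOf Q).index = 4
    omega
  have hr12 : 12 ∣ Z.index :=
    Nat.Coprime.mul_dvd_of_dvd_of_dvd (m := 4) (n := 3) (by norm_num) (hZQi ▸ relIndex_dvd_index_of_normal Z Q)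
      (hCQ ▸ h3)
  refine ⟨Or.inr ?_, fun _ => ?_⟩
  · rw [hV]
    rcases hqs with rfl | rfl | rfl | rfl <;> norm_num
  rcases (show Z.index = 12 ∨ Z.index = 24 by
    have hle := Nat.le_of_dvd (by norm_num) hr24
    obtain ⟨t, ht⟩ := hr12
    have : 0 < Z.index := Nat.pos_of_ne_zero Subgroup.index_ne_zero_of_finite
    omega) with hi | hi
  · -- the index is 12
    have hcz := card_mul_index Z
    rw [hi] at hcz
    rw [hA, pow_one] at hZd
    have hGq : Nat.card G + 1 = q * q := by rw [hG, hV]; ring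
    obtain ⟨c, hc⟩ := exists_prime_orderOf_dvd_card' (G := G) 3 h3G
    have hcn : c ∉ centralizer (Q : Set G) := fun hc' => by
      have h1 : 3 ∣ Nat.card Z := hc ▸ Subgroup.orderOf_dvd_natCard Z (hCQ ▸ hc')
      have h2 := Nat.le_of_dvd (by omega) hZd
      rcases hqs with rfl | rfl | rfl | rfl <;> first | omega | (exfalso; have := h1.trans hZd; omega)
    obtain ⟨H, ⟨eH⟩⟩ := sl23_of_quaternion e (hc ▸ pow_orderOf_eq_one c) hcn
    have hH24 : Nat.card H = 24 := (Nat.card_congr eH.toEquiv).trans LocalStructure.card_sl23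
    rcases hqs with rfl | rfl | rfl | rfl
    · refine Or.inr (Or.inl ⟨by rw [hV]; norm_num, ⟨?_⟩⟩)
      have hHtop : H = ⊤ := (card_eq_iff_eq_top H).1 (by omega)
      exact (MulEquiv.subgroupCongr hHtop |>.trans topEquiv).symm.trans eH
    · exfalso; have h2 : Nat.card Z = 4 := by omega
      rw [h2] at hZd; norm_num at hZd
    · refine Or.inr (Or.inr ⟨by rw [hV]; norm_num, ?_⟩)
      have hZ10 : Nat.card Z = 10 := by omega
      haveI : Fact (Nat.Prime 5) := ⟨by norm_num⟩
      obtain ⟨⟨z, hz⟩, hzo⟩ := exists_prime_orderOf_dvd_card' (G := Z) 5 (by rw [hZ10]; norm_num)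
      rw [Subgroup.orderOf_mk] at hzo
      have hzc : ∀ x : G, Commute x z := fun x =>
        (mem_centralizer_iff.1 (show x ∈ D from hDtop ▸ mem_top x) z hz).symm
      have hW : Nat.card (zpowers z) = 5 := by rw [Nat.card_zpowers, hzo]
      let Ψ : H × zpowers z →* G := MonoidHom.noncommCoprod H.subtype (zpowers z).subtype fun h w => by
        obtain ⟨j, hj⟩ := mem_zpowers_iff.1 w.2
        show Commute (h : G) (w : G)
        rw [← hj]
        exact (hzc _).zpow_right j
      have hinf : H ⊓ zpowers z = ⊥ := inf_eq_bot_of_coprime (by rw [hH24, hW]; norm_num)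
      have hΨ : Function.Injective Ψ := by
        refine (injective_iff_map_eq_one Ψ).2 fun x hx => ?_
        have hx' : (x.1 : G) * x.2 = 1 := hx
        have h1 : (x.1 : G) ∈ H ⊓ zpowers z :=
          ⟨x.1.2, by rw [mul_eq_one_iff_eq_inv.1 hx']; exact (zpowers z).inv_mem x.2.2⟩
        rw [hinf, mem_bot] at h1
        rw [h1, one_mul] at hx'
        exact Prod.ext (Subtype.ext h1) (Subtype.ext hx')
      have hbij : Function.Bijective Ψ := (Nat.bijective_iff_injective_and_card Ψ).2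
        ⟨hΨ, by rw [Nat.card_prod, hH24, hW]; omega⟩
      haveI : IsCyclic (zpowers z) := inferInstance
      let e5 : zpowers z ≃* Multiplicative (ZMod 5) := (mulEquivOfPrimeCardEq (p := 5) hW
        (by rw [Nat.card_eq_fintype_card]; rfl))
      exact ⟨(MulEquiv.ofBijective Ψ hbij).symm.trans (MulEquiv.prodCongr eH e5)⟩
    · exfalso; have h2 : Nat.card Z = 44 := by omega
      rw [h2] at hZd; norm_num at hZd
  · left
    set S := Q ⊔ Z with hS
    haveI : S.Normal := inferInstance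
    have h6 : Nat.card (G ⧸ S) = 6 := by
      have h1 := relIndex_mul_index (show Z ≤ S from le_sup_right)
      rw [hS, relIndex_sup_right, hZQi, hi] at h1
      rw [← index_eq_card, hS]; omega
    obtain ⟨w, hw⟩ := exists_prime_orderOf_dvd_card' (G := G ⧸ S) 3 (by rw [h6]; norm_num)
    have hw2 : (zpowers w).index = 2 := by
      have h1 := card_mul_index (zpowers w)
      rw [Nat.card_zpowers, hw, h6] at h1
      omega
    haveI : (zpowers w).Normal := normal_of_index_eq_two hw2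
    exact ⟨(zpowers w).comap (QuotientGroup.mk' S), inferInstance, by
      rw [index_comap_of_surjective _ (QuotientGroup.mk'_surjective S), hw2]⟩

end Cfsg.Agent.SolRegular
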